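import Cfsg.Agent.Spor.J3b.D0

set_option autoImplicit false
set_option maxRecDepth 100000000
set_option Elab.async false

namespace Cfsg.Agent.Spor.J3b

theorem ok0 : Net.okb 7 n0 = true := by decide +kernel

theorem ok1 : Net.okb 7 n1 = true := by decide +kernel

theorem ok2 : Net.okb 7 n2 = true := by decide +kernel

theorem ok3 : Net.okb 7 n3 = true := by decide +kernel

theorem ok4 : Net.okb 7 n4 = true := by decide +kernel

theorem rel0 : T.rel 7 [1, 1] 0 7 = true := by decide +kernel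

theorem rel1 : T.rel 7 [6, 2, 5, 4] 0 7 = true := by decide +kernel

theorem rel2 : T.rel 7 [8, 4, 5, 2] 0 7 = true := by decide +kernel

theorem rel3 : T.rel 7 [6, 8, 7, 9] 0 7 = true := by decide +kernel

theorem rel4 : T.rel 7 [6, 6, 6] 0 7 = true := by decide +kernel

theorem rel5 : T.rel 7 [3, 6, 5, 7] 0 7 = true := by decide +kernel

theorem rel6 : T.rel 7 [3, 8, 5, 9] 0 7 = true := by decide +kernel

theorem rel7 : T.rel 7 [3, 3, 3] 0 7 = true := by decide +kernel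

theorem rel8 : T.rel 7 [8, 8, 8] 0 7 = true := by decide +kernel

theorem rel9 : T.rel 7 [1, 2, 1, 2] 0 7 = true := by decide +kernel

theorem rel10 : T.rel 7 [1, 3, 1, 3, 1, 3, 1, 8, 7] 0 7 = true := by decide +kernel

theorem rel11 : T.rel 7 [1, 3, 4, 5, 1, 5, 2, 3, 1, 8] 0 7 = true := by decide +kernel

theorem hcov : T.treeCov (ones 80) L 1 = true := by decide +kernel

theorem hg : lall (fun z => band (memL L z) (band (sub (ones 80) (T.let z).cl) (T.closed (ones 80) z))) gs = true := by decide +kernel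

theorem rot1_1 : T.rot 1 [1] (sel (ones 80) ip1 1) = true := by decide +kernel

theorem rot1_1r : band (Rule.ok (2 * 1) EX RL ⟨1 :: [1], [], 9, false⟩) (lall (memL L) [1]) = true := by decide +kernel

theorem rot1_2 : T.rot 1 [2, 1, 2] (sel (ones 80) ip1 2) = true := by decide +kernel

theorem rot1_2r : band (Rule.ok (2 * 1) EX RL ⟨1 :: [2, 1, 2], [], 6, true⟩) (lall (memL L) [2, 1, 2]) = true := by decide +kernel

theorem rot1_3 : T.rot 1 [4, 1, 4] (sel (ones 80) ip1 3) = true := by decide +kernel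

theorem rot1_3r : band (Rule.ok (2 * 1) EX RL ⟨1 :: [4, 1, 4], [0], 6, false⟩) (lall (memL L) [4, 1, 4]) = true := by decide +kernel

theorem rot1_4 : T.rot 1 [3, 1, 3, 1, 3, 1, 8, 7] (sel (ones 80) ip1 4) = true := by decide +kernel

theorem rot1_4r : band (Rule.ok (2 * 1) EX RL ⟨1 :: [3, 1, 3, 1, 3, 1, 8, 7], [], 7, true⟩) (lall (memL L) [3, 1, 3, 1, 3, 1, 8, 7]) = true := by decide +kernel

theorem rot1_5 : T.rot 1 [3, 1, 3, 1, 8, 7, 1, 3] (sel (ones 80) ip1 5) = true := by decide +kernel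

theorem rot1_5r : band (Rule.ok (2 * 1) EX RL ⟨1 :: [3, 1, 3, 1, 8, 7, 1, 3], [0, 5], 7, true⟩) (lall (memL L) [3, 1, 3, 1, 8, 7, 1, 3]) = true := by decide +kernel

theorem rot1_6 : T.rot 1 [8, 7, 1, 3, 1, 3, 1, 3] (sel (ones 80) ip1 6) = true := by decide +kernel

theorem rot1_6r : band (Rule.ok (2 * 1) EX RL ⟨1 :: [8, 7, 1, 3, 1, 3, 1, 3], [0, 5, 0, 5, 0, 5], 7, true⟩) (lall (memL L) [8, 7, 1, 3, 1, 3, 1, 3]) = true := by decide +kernel

theorem rot1_7 : T.rot 1 [5, 1, 5, 1, 5, 1, 6, 9] (sel (ones 80) ip1 7) = true := by decide +kernel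

theorem rot1_7r : band (Rule.ok (2 * 1) EX RL ⟨1 :: [5, 1, 5, 1, 5, 1, 6, 9], [3, 5, 2, 2, 4, 3], 7, false⟩) (lall (memL L) [5, 1, 5, 1, 5, 1, 6, 9]) = true := by decide +kernel

theorem rot1_8 : T.rot 1 [5, 1, 5, 1, 6, 9, 1, 5] (sel (ones 80) ip1 8) = true := by decide +kernel

theorem rot1_8r : band (Rule.ok (2 * 1) EX RL ⟨1 :: [5, 1, 5, 1, 6, 9, 1, 5], [0, 5, 0, 5, 0], 7, false⟩) (lall (memL L) [5, 1, 5, 1, 6, 9, 1, 5]) = true := by decide +kernel

theorem rot1_9 : T.rot 1 [5, 1, 6, 9, 1, 5, 1, 5] (sel (ones 80) ip1 9) = true := by decide +kernel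

theorem rot1_9r : band (Rule.ok (2 * 1) EX RL ⟨1 :: [5, 1, 6, 9, 1, 5, 1, 5], [0, 5, 0], 7, false⟩) (lall (memL L) [5, 1, 6, 9, 1, 5, 1, 5]) = true := by decide +kernel

theorem rot1_10 : T.rot 1 [3, 4, 5, 1, 5, 2, 3, 1, 8] (sel (ones 80) ip1 10) = true := by decide +kernel

theorem rot1_10r : band (Rule.ok (2 * 1) EX RL ⟨1 :: [3, 4, 5, 1, 5, 2, 3, 1, 8], [], 8, true⟩) (lall (memL L) [3, 4, 5, 1, 5, 2, 3, 1, 8]) = true := by decide +kernel

theorem rot1_11 : T.rot 1 [5, 2, 3, 1, 8, 1, 3, 4, 5] (sel (ones 80) ip1 11) = true := by decide +kernel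

theorem rot1_11r : band (Rule.ok (2 * 1) EX RL ⟨1 :: [5, 2, 3, 1, 8, 1, 3, 4, 5], [0, 5, 2, 4], 8, true⟩) (lall (memL L) [5, 2, 3, 1, 8, 1, 3, 4, 5]) = true := by decide +kernel

theorem rot1_12 : T.rot 1 [8, 1, 3, 4, 5, 1, 5, 2, 3] (sel (ones 80) ip1 12) = true := by decide +kernel

theorem rot1_12r : band (Rule.ok (2 * 1) EX RL ⟨1 :: [8, 1, 3, 4, 5, 1, 5, 2, 3], [2, 4, 3, 0], 8, true⟩) (lall (memL L) [8, 1, 3, 4, 5, 1, 5, 2, 3]) = true := by decide +kernel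

theorem rot1_13 : T.rot 1 [5, 4, 3, 1, 3, 2, 5, 1, 9] (sel (ones 80) ip1 13) = true := by decide +kernel

theorem rot1_13r : band (Rule.ok (2 * 1) EX RL ⟨1 :: [5, 4, 3, 1, 3, 2, 5, 1, 9], [2, 4, 3], 8, false⟩) (lall (memL L) [5, 4, 3, 1, 3, 2, 5, 1, 9]) = true := by decide +kernel

theorem rot1_14 : T.rot 1 [3, 2, 5, 1, 9, 1, 5, 4, 3] (sel (ones 80) ip1 14) = true := by decide +kernel

theorem rot1_14r : band (Rule.ok (2 * 1) EX RL ⟨1 :: [3, 2, 5, 1, 9, 1, 5, 4, 3], [0, 5, 2, 4, 0], 8, false⟩) (lall (memL L) [3, 2, 5, 1, 9, 1, 5, 4, 3]) = true := by decide +kernel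

theorem rot1_15 : T.rot 1 [9, 1, 5, 4, 3, 1, 3, 2, 5] (sel (ones 80) ip1 15) = true := by decide +kernel

theorem rot1_15r : band (Rule.ok (2 * 1) EX RL ⟨1 :: [9, 1, 5, 4, 3, 1, 3, 2, 5], [0], 8, false⟩) (lall (memL L) [9, 1, 5, 4, 3, 1, 3, 2, 5]) = true := by decide +kernel

theorem cov1 : T.cover 1 [(sel (ones 80) ip1 1), (sel (ones 80) ip1 2), (sel (ones 80) ip1 3), (sel (ones 80) ip1 4), (sel (ones 80) ip1 5), (sel (ones 80) ip1 6), (sel (ones 80) ip1 7), (sel (ones 80) ip1 8), (sel (ones 80) ip1 9), (sel (ones 80) ip1 10), (sel (ones 80) ip1 11), (sel (ones 80) ip1 12), (sel (ones 80) ip1 13), (sel (ones 80) ip1 14), (sel (ones 80) ip1 15)] = true := by decide +kernel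

theorem tl1 : T.treeLt 7 1 = true := by decide +kernel

theorem rot2_1 : T.rot 2 [4] (sel (ones 80) ip2 1) = true := by decide +kernel

theorem rot2_1r : band (Rule.ok (2 * 1) EX RL ⟨2 :: [4], [], 9, false⟩) (lall (memL L) [4]) = true := by decide +kernel

theorem rot2_2 : T.rot 2 [1, 2, 1] (sel (ones 80) ip2 2) = true := by decide +kernel

theorem rot2_2r : band (Rule.ok (2 * 1) EX RL ⟨2 :: [1, 2, 1], [2], 6, true⟩) (lall (memL L) [1, 2, 1]) = true := by decide +kernel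

theorem rot2_3 : T.rot 2 [3, 4, 7] (sel (ones 80) ip2 3) = true := by decide +kernel

theorem rot2_3r : band (Rule.ok (2 * 1) EX RL ⟨2 :: [3, 4, 7], [], 9, false⟩) (lall (memL L) [3, 4, 7]) = true := by decide +kernel

theorem rot2_4 : T.rot 2 [5, 4, 6] (sel (ones 80) ip2 4) = true := by decide +kernel

theorem rot2_4r : band (Rule.ok (2 * 1) EX RL ⟨2 :: [5, 4, 6], [], 9, false⟩) (lall (memL L) [5, 4, 6]) = true := by decide +kernel

theorem rot2_5 : T.rot 2 [9, 4, 3] (sel (ones 80) ip2 5) = true := by decide +kernel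

theorem rot2_5r : band (Rule.ok (2 * 1) EX RL ⟨2 :: [9, 4, 3], [], 9, false⟩) (lall (memL L) [9, 4, 3]) = true := by decide +kernel

theorem rot2_6 : T.rot 2 [8, 4, 5] (sel (ones 80) ip2 6) = true := by decide +kernel

theorem rot2_6r : band (Rule.ok (2 * 1) EX RL ⟨2 :: [8, 4, 5], [], 9, false⟩) (lall (memL L) [8, 4, 5]) = true := by decide +kernel

theorem rot2_7 : T.rot 2 [3, 1, 8, 1, 3, 4, 5, 1, 5] (sel (ones 80) ip2 7) = true := by decide +kernel

theorem rot2_7r : band (Rule.ok (2 * 1) EX RL ⟨2 :: [3, 1, 8, 1, 3, 4, 5, 1, 5], [2, 4, 3, 0, 4, 2], 8, true⟩) (lall (memL L) [3, 1, 8, 1, 3, 4, 5, 1, 5]) = true := by decide +kernel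

theorem rot2_8 : T.rot 2 [5, 1, 9, 1, 5, 4, 3, 1, 3] (sel (ones 80) ip2 8) = true := by decide +kernel

theorem rot2_8r : band (Rule.ok (2 * 1) EX RL ⟨2 :: [5, 1, 9, 1, 5, 4, 3, 1, 3], [0, 5, 2], 8, false⟩) (lall (memL L) [5, 1, 9, 1, 5, 4, 3, 1, 3]) = true := by decide +kernel

theorem cov2 : T.cover 2 [(sel (ones 80) ip2 1), (sel (ones 80) ip2 2), (sel (ones 80) ip2 3), (sel (ones 80) ip2 4), (sel (ones 80) ip2 5), (sel (ones 80) ip2 6), (sel (ones 80) ip2 7), (sel (ones 80) ip2 8)] = true := by decide +kernel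

theorem tl2 : T.treeLt 7 2 = true := by decide +kernel

theorem rot3_1 : T.rot 3 [5] (sel (ones 80) ip3 1) = true := by decide +kernel

theorem rot3_1r : band (Rule.ok (2 * 1) EX RL ⟨3 :: [5], [], 9, false⟩) (lall (memL L) [5]) = true := by decide +kernel

theorem rot3_2 : T.rot 3 [3, 3] (sel (ones 80) ip3 2) = true := by decide +kernel

theorem rot3_2r : band (Rule.ok (2 * 1) EX RL ⟨3 :: [3, 3], [], 4, true⟩) (lall (memL L) [3, 3]) = true := by decide +kernel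

theorem rot3_3 : T.rot 3 [6, 5, 7] (sel (ones 80) ip3 3) = true := by decide +kernel

theorem rot3_3r : band (Rule.ok (2 * 1) EX RL ⟨3 :: [6, 5, 7], [], 2, true⟩) (lall (memL L) [6, 5, 7]) = true := by decide +kernel

theorem rot3_4 : T.rot 3 [7, 5, 6] (sel (ones 80) ip3 4) = true := by decide +kernel

theorem rot3_4r : band (Rule.ok (2 * 1) EX RL ⟨3 :: [7, 5, 6], [5, 2], 3, true⟩) (lall (memL L) [7, 5, 6]) = true := by decide +kernel

theorem rot3_5 : T.rot 3 [8, 5, 9] (sel (ones 80) ip3 5) = true := by decide +kernel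

theorem rot3_5r : band (Rule.ok (2 * 1) EX RL ⟨3 :: [8, 5, 9], [], 3, true⟩) (lall (memL L) [8, 5, 9]) = true := by decide +kernel

theorem rot3_6 : T.rot 3 [9, 5, 8] (sel (ones 80) ip3 6) = true := by decide +kernel

theorem rot3_6r : band (Rule.ok (2 * 1) EX RL ⟨3 :: [9, 5, 8], [5, 3], 2, true⟩) (lall (memL L) [9, 5, 8]) = true := by decide +kernel

theorem rot3_7 : T.rot 3 [4, 7, 2] (sel (ones 80) ip3 7) = true := by decide +kernel

theorem rot3_7r : band (Rule.ok (2 * 1) EX RL ⟨3 :: [4, 7, 2], [], 9, false⟩) (lall (memL L) [4, 7, 2]) = true := by decide +kernel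

theorem rot3_8 : T.rot 3 [2, 9, 4] (sel (ones 80) ip3 8) = true := by decide +kernel

theorem rot3_8r : band (Rule.ok (2 * 1) EX RL ⟨3 :: [2, 9, 4], [], 9, false⟩) (lall (memL L) [2, 9, 4]) = true := by decide +kernel

theorem rot3_9 : T.rot 3 [1, 3, 1, 3, 1, 8, 7, 1] (sel (ones 80) ip3 9) = true := by decide +kernel

theorem rot3_9r : band (Rule.ok (2 * 1) EX RL ⟨3 :: [1, 3, 1, 3, 1, 8, 7, 1], [0], 7, true⟩) (lall (memL L) [1, 3, 1, 3, 1, 8, 7, 1]) = true := by decide +kernel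

theorem rot3_10 : T.rot 3 [1, 3, 1, 8, 7, 1, 3, 1] (sel (ones 80) ip3 10) = true := by decide +kernel

theorem rot3_10r : band (Rule.ok (2 * 1) EX RL ⟨3 :: [1, 3, 1, 8, 7, 1, 3, 1], [0, 5, 0], 7, true⟩) (lall (memL L) [1, 3, 1, 8, 7, 1, 3, 1]) = true := by decide +kernel

theorem rot3_11 : T.rot 3 [4, 5, 1, 5, 2, 3, 1, 8, 1] (sel (ones 80) ip3 11) = true := by decide +kernel

theorem rot3_11r : band (Rule.ok (2 * 1) EX RL ⟨3 :: [4, 5, 1, 5, 2, 3, 1, 8, 1], [0], 8, true⟩) (lall (memL L) [4, 5, 1, 5, 2, 3, 1, 8, 1]) = true := by decide +kernel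

theorem rot3_12 : T.rot 3 [1, 8, 1, 3, 4, 5, 1, 5, 2] (sel (ones 80) ip3 12) = true := by decide +kernel

theorem rot3_12r : band (Rule.ok (2 * 1) EX RL ⟨3 :: [1, 8, 1, 3, 4, 5, 1, 5, 2], [2, 4, 3, 0, 4], 8, true⟩) (lall (memL L) [1, 8, 1, 3, 4, 5, 1, 5, 2]) = true := by decide +kernel

theorem rot3_13 : T.rot 3 [1, 3, 2, 5, 1, 9, 1, 5, 4] (sel (ones 80) ip3 13) = true := by decide +kernel

theorem rot3_13r : band (Rule.ok (2 * 1) EX RL ⟨3 :: [1, 3, 2, 5, 1, 9, 1, 5, 4], [0, 5, 2, 4, 0, 4], 8, false⟩) (lall (memL L) [1, 3, 2, 5, 1, 9, 1, 5, 4]) = true := by decide +kernel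

theorem rot3_14 : T.rot 3 [2, 5, 1, 9, 1, 5, 4, 3, 1] (sel (ones 80) ip3 14) = true := by decide +kernel

theorem rot3_14r : band (Rule.ok (2 * 1) EX RL ⟨3 :: [2, 5, 1, 9, 1, 5, 4, 3, 1], [0, 5, 2, 4], 8, false⟩) (lall (memL L) [2, 5, 1, 9, 1, 5, 4, 3, 1]) = true := by decide +kernel

theorem cov3 : T.cover 3 [(sel (ones 80) ip3 1), (sel (ones 80) ip3 2), (sel (ones 80) ip3 3), (sel (ones 80) ip3 4), (sel (ones 80) ip3 5), (sel (ones 80) ip3 6), (sel (ones 80) ip3 7), (sel (ones 80) ip3 8), (sel (ones 80) ip3 9), (sel (ones 80) ip3 10), (sel (ones 80) ip3 11), (sel (ones 80) ip3 12), (sel (ones 80) ip3 13), (sel (ones 80) ip3 14), 1] = true := by decide +kernel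

theorem tl3 : T.treeLt 7 3 = true := by decide +kernel

theorem rot4_1 : T.rot 4 [2] (sel (ones 80) ip4 1) = true := by decide +kernel

theorem rot4_1r : band (Rule.ok (2 * 1) EX RL ⟨4 :: [2], [], 9, false⟩) (lall (memL L) [2]) = true := by decide +kernel

theorem rot4_2 : T.rot 4 [1, 4, 1] (sel (ones 80) ip4 2) = true := by decide +kernel

theorem rot4_2r : band (Rule.ok (2 * 1) EX RL ⟨4 :: [1, 4, 1], [], 6, false⟩) (lall (memL L) [1, 4, 1]) = true := by decide +kernel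

theorem rot4_3 : T.rot 4 [7, 2, 3] (sel (ones 80) ip4 3) = true := by decide +kernel

theorem rot4_3r : band (Rule.ok (2 * 1) EX RL ⟨4 :: [7, 2, 3], [], 9, false⟩) (lall (memL L) [7, 2, 3]) = true := by decide +kernel

theorem rot4_4 : T.rot 4 [6, 2, 5] (sel (ones 80) ip4 4) = true := by decide +kernel

theorem rot4_4r : band (Rule.ok (2 * 1) EX RL ⟨4 :: [6, 2, 5], [], 9, false⟩) (lall (memL L) [6, 2, 5]) = true := by decide +kernel

theorem rot4_5 : T.rot 4 [3, 2, 9] (sel (ones 80) ip4 5) = true := by decide +kernel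

theorem rot4_5r : band (Rule.ok (2 * 1) EX RL ⟨4 :: [3, 2, 9], [], 9, false⟩) (lall (memL L) [3, 2, 9]) = true := by decide +kernel

theorem rot4_6 : T.rot 4 [5, 2, 8] (sel (ones 80) ip4 6) = true := by decide +kernel

theorem rot4_6r : band (Rule.ok (2 * 1) EX RL ⟨4 :: [5, 2, 8], [], 9, false⟩) (lall (memL L) [5, 2, 8]) = true := by decide +kernel

theorem rot4_7 : T.rot 4 [5, 1, 5, 2, 3, 1, 8, 1, 3] (sel (ones 80) ip4 7) = true := by decide +kernel

theorem rot4_7r : band (Rule.ok (2 * 1) EX RL ⟨4 :: [5, 1, 5, 2, 3, 1, 8, 1, 3], [0, 5], 8, true⟩) (lall (memL L) [5, 1, 5, 2, 3, 1, 8, 1, 3]) = true := by decide +kernel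

theorem rot4_8 : T.rot 4 [3, 1, 3, 2, 5, 1, 9, 1, 5] (sel (ones 80) ip4 8) = true := by decide +kernel

theorem rot4_8r : band (Rule.ok (2 * 1) EX RL ⟨4 :: [3, 1, 3, 2, 5, 1, 9, 1, 5], [2, 4, 3, 0, 4], 8, false⟩) (lall (memL L) [3, 1, 3, 2, 5, 1, 9, 1, 5]) = true := by decide +kernel

theorem cov4 : T.cover 4 [(sel (ones 80) ip4 1), (sel (ones 80) ip4 2), (sel (ones 80) ip4 3), (sel (ones 80) ip4 4), (sel (ones 80) ip4 5), (sel (ones 80) ip4 6), (sel (ones 80) ip4 7), (sel (ones 80) ip4 8)] = true := by decide +kernel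

theorem tl4 : T.treeLt 7 4 = true := by decide +kernel

theorem rot5_1 : T.rot 5 [3] (sel (ones 80) ip5 1) = true := by decide +kernel

theorem rot5_1r : band (Rule.ok (2 * 1) EX RL ⟨5 :: [3], [], 9, false⟩) (lall (memL L) [3]) = true := by decide +kernel

theorem rot5_2 : T.rot 5 [5, 5] (sel (ones 80) ip5 2) = true := by decide +kernel

theorem rot5_2r : band (Rule.ok (2 * 1) EX RL ⟨5 :: [5, 5], [], 4, false⟩) (lall (memL L) [5, 5]) = true := by decide +kernel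

theorem rot5_3 : T.rot 5 [7, 3, 6] (sel (ones 80) ip5 3) = true := by decide +kernel

theorem rot5_3r : band (Rule.ok (2 * 1) EX RL ⟨5 :: [7, 3, 6], [5, 2, 5], 3, false⟩) (lall (memL L) [7, 3, 6]) = true := by decide +kernel

theorem rot5_4 : T.rot 5 [6, 3, 7] (sel (ones 80) ip5 4) = true := by decide +kernel

theorem rot5_4r : band (Rule.ok (2 * 1) EX RL ⟨5 :: [6, 3, 7], [5], 2, false⟩) (lall (memL L) [6, 3, 7]) = true := by decide +kernel

theorem rot5_5 : T.rot 5 [9, 3, 8] (sel (ones 80) ip5 5) = true := by decide +kernel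

theorem rot5_5r : band (Rule.ok (2 * 1) EX RL ⟨5 :: [9, 3, 8], [5, 3, 5], 2, false⟩) (lall (memL L) [9, 3, 8]) = true := by decide +kernel

theorem rot5_6 : T.rot 5 [8, 3, 9] (sel (ones 80) ip5 6) = true := by decide +kernel

theorem rot5_6r : band (Rule.ok (2 * 1) EX RL ⟨5 :: [8, 3, 9], [5], 3, false⟩) (lall (memL L) [8, 3, 9]) = true := by decide +kernel

theorem rot5_7 : T.rot 5 [4, 6, 2] (sel (ones 80) ip5 7) = true := by decide +kernel

theorem rot5_7r : band (Rule.ok (2 * 1) EX RL ⟨5 :: [4, 6, 2], [], 9, false⟩) (lall (memL L) [4, 6, 2]) = true := by decide +kernel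

theorem rot5_8 : T.rot 5 [2, 8, 4] (sel (ones 80) ip5 8) = true := by decide +kernel

theorem rot5_8r : band (Rule.ok (2 * 1) EX RL ⟨5 :: [2, 8, 4], [], 9, false⟩) (lall (memL L) [2, 8, 4]) = true := by decide +kernel

theorem rot5_9 : T.rot 5 [1, 5, 1, 5, 1, 6, 9, 1] (sel (ones 80) ip5 9) = true := by decide +kernel

theorem rot5_9r : band (Rule.ok (2 * 1) EX RL ⟨5 :: [1, 5, 1, 5, 1, 6, 9, 1], [0, 5, 0, 5, 0, 5], 7, false⟩) (lall (memL L) [1, 5, 1, 5, 1, 6, 9, 1]) = true := by decide +kernel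

theorem rot5_10 : T.rot 5 [1, 5, 1, 6, 9, 1, 5, 1] (sel (ones 80) ip5 10) = true := by decide +kernel

theorem rot5_10r : band (Rule.ok (2 * 1) EX RL ⟨5 :: [1, 5, 1, 6, 9, 1, 5, 1], [0, 5, 0, 5], 7, false⟩) (lall (memL L) [1, 5, 1, 6, 9, 1, 5, 1]) = true := by decide +kernel

theorem rot5_11 : T.rot 5 [1, 6, 9, 1, 5, 1, 5, 1] (sel (ones 80) ip5 11) = true := by decide +kernel

theorem rot5_11r : band (Rule.ok (2 * 1) EX RL ⟨5 :: [1, 6, 9, 1, 5, 1, 5, 1], [0, 5], 7, false⟩) (lall (memL L) [1, 6, 9, 1, 5, 1, 5, 1]) = true := by decide +kernel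

theorem rot5_12 : T.rot 5 [1, 5, 2, 3, 1, 8, 1, 3, 4] (sel (ones 80) ip5 12) = true := by decide +kernel

theorem rot5_12r : band (Rule.ok (2 * 1) EX RL ⟨5 :: [1, 5, 2, 3, 1, 8, 1, 3, 4], [0, 5, 2], 8, true⟩) (lall (memL L) [1, 5, 2, 3, 1, 8, 1, 3, 4]) = true := by decide +kernel

theorem rot5_13 : T.rot 5 [2, 3, 1, 8, 1, 3, 4, 5, 1] (sel (ones 80) ip5 13) = true := by decide +kernel

theorem rot5_13r : band (Rule.ok (2 * 1) EX RL ⟨5 :: [2, 3, 1, 8, 1, 3, 4, 5, 1], [0, 5, 2, 4, 0], 8, true⟩) (lall (memL L) [2, 3, 1, 8, 1, 3, 4, 5, 1]) = true := by decide +kernel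

theorem rot5_14 : T.rot 5 [4, 3, 1, 3, 2, 5, 1, 9, 1] (sel (ones 80) ip5 14) = true := by decide +kernel

theorem rot5_14r : band (Rule.ok (2 * 1) EX RL ⟨5 :: [4, 3, 1, 3, 2, 5, 1, 9, 1], [2, 4, 3, 0], 8, false⟩) (lall (memL L) [4, 3, 1, 3, 2, 5, 1, 9, 1]) = true := by decide +kernel

theorem rot5_15 : T.rot 5 [1, 9, 1, 5, 4, 3, 1, 3, 2] (sel (ones 80) ip5 15) = true := by decide +kernel

theorem rot5_15r : band (Rule.ok (2 * 1) EX RL ⟨5 :: [1, 9, 1, 5, 4, 3, 1, 3, 2], [0, 5], 8, false⟩) (lall (memL L) [1, 9, 1, 5, 4, 3, 1, 3, 2]) = true := by decide +kernel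

theorem cov5 : T.cover 5 [(sel (ones 80) ip5 1), (sel (ones 80) ip5 2), (sel (ones 80) ip5 3), (sel (ones 80) ip5 4), (sel (ones 80) ip5 5), (sel (ones 80) ip5 6), (sel (ones 80) ip5 7), (sel (ones 80) ip5 8), (sel (ones 80) ip5 9), (sel (ones 80) ip5 10), (sel (ones 80) ip5 11), (sel (ones 80) ip5 12), (sel (ones 80) ip5 13), (sel (ones 80) ip5 14), (sel (ones 80) ip5 15)] = true := by decide +kernel

theorem tl5 : T.treeLt 7 5 = true := by decide +kernel

theorem rot6_1 : T.rot 6 [6, 6] (sel (ones 80) ip6 1) = true := by decide +kernel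

theorem rot6_1r : band (Rule.ok (2 * 1) EX RL ⟨6 :: [6, 6], [2], 4, true⟩) (lall (memL L) [6, 6]) = true := by decide +kernel

theorem rot6_2 : T.rot 6 [8, 7, 9] (sel (ones 80) ip6 2) = true := by decide +kernel

theorem rot6_2r : band (Rule.ok (2 * 1) EX RL ⟨6 :: [8, 7, 9], [], 0, true⟩) (lall (memL L) [8, 7, 9]) = true := by decide +kernel

theorem rot6_3 : T.rot 6 [9, 7, 8] (sel (ones 80) ip6 3) = true := by decide +kernel

theorem rot6_3r : band (Rule.ok (2 * 1) EX RL ⟨6 :: [9, 7, 8], [2, 5, 3], 0, false⟩) (lall (memL L) [9, 7, 8]) = true := by decide +kernel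

theorem rot6_4 : T.rot 6 [5, 7, 3] (sel (ones 80) ip6 4) = true := by decide +kernel

theorem rot6_4r : band (Rule.ok (2 * 1) EX RL ⟨6 :: [5, 7, 3], [5], 2, true⟩) (lall (memL L) [5, 7, 3]) = true := by decide +kernel

theorem rot6_5 : T.rot 6 [3, 7, 5] (sel (ones 80) ip6 5) = true := by decide +kernel

theorem rot6_5r : band (Rule.ok (2 * 1) EX RL ⟨6 :: [3, 7, 5], [], 2, false⟩) (lall (memL L) [3, 7, 5]) = true := by decide +kernel

theorem rot6_6 : T.rot 6 [2, 5, 4] (sel (ones 80) ip6 6) = true := by decide +kernel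

theorem rot6_6r : band (Rule.ok (2 * 1) EX RL ⟨6 :: [2, 5, 4], [], 9, false⟩) (lall (memL L) [2, 5, 4]) = true := by decide +kernel

theorem rot6_7 : T.rot 6 [9, 1, 5, 1, 5, 1, 5, 1] (sel (ones 80) ip6 7) = true := by decide +kernel

theorem rot6_7r : band (Rule.ok (2 * 1) EX RL ⟨6 :: [9, 1, 5, 1, 5, 1, 5, 1], [], 7, false⟩) (lall (memL L) [9, 1, 5, 1, 5, 1, 5, 1]) = true := by decide +kernel

theorem cov6 : T.cover 6 [(sel (ones 80) ip6 1), (sel (ones 80) ip6 2), (sel (ones 80) ip6 3), (sel (ones 80) ip6 4), (sel (ones 80) ip6 5), (sel (ones 80) ip6 6), (sel (ones 80) ip6 7), 1] = true := by decide +kernel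

theorem tl6 : Nat.beq (T.let 6).tt 0 = true := by decide +kernel

theorem rot7_1 : T.rot 7 [6] (sel (ones 80) ip7 1) = true := by decide +kernel

theorem rot7_1r : band (Rule.ok (2 * 1) EX RL ⟨7 :: [6], [], 9, false⟩) (lall (memL L) [6]) = true := by decide +kernel

theorem rot7_2 : T.rot 7 [7, 7] (sel (ones 80) ip7 2) = true := by decide +kernel

theorem rot7_2r : band (Rule.ok (2 * 1) EX RL ⟨7 :: [7, 7], [2], 4, false⟩) (lall (memL L) [7, 7]) = true := by decide +kernel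

theorem rot7_3 : T.rot 7 [9, 6, 8] (sel (ones 80) ip7 3) = true := by decide +kernel

theorem rot7_3r : band (Rule.ok (2 * 1) EX RL ⟨7 :: [9, 6, 8], [2, 5, 3, 3, 5, 2], 0, true⟩) (lall (memL L) [9, 6, 8]) = true := by decide +kernel

theorem rot7_4 : T.rot 7 [8, 6, 9] (sel (ones 80) ip7 4) = true := by decide +kernel

theorem rot7_4r : band (Rule.ok (2 * 1) EX RL ⟨7 :: [8, 6, 9], [3, 5, 2], 0, false⟩) (lall (memL L) [8, 6, 9]) = true := by decide +kernel

theorem rot7_5 : T.rot 7 [3, 6, 5] (sel (ones 80) ip7 5) = true := by decide +kernel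

theorem rot7_5r : band (Rule.ok (2 * 1) EX RL ⟨7 :: [3, 6, 5], [5, 2], 3, false⟩) (lall (memL L) [3, 6, 5]) = true := by decide +kernel

theorem rot7_6 : T.rot 7 [5, 6, 3] (sel (ones 80) ip7 6) = true := by decide +kernel

theorem rot7_6r : band (Rule.ok (2 * 1) EX RL ⟨7 :: [5, 6, 3], [5, 2, 5], 3, true⟩) (lall (memL L) [5, 6, 3]) = true := by decide +kernel

theorem rot7_7 : T.rot 7 [2, 3, 4] (sel (ones 80) ip7 7) = true := by decide +kernel

theorem rot7_7r : band (Rule.ok (2 * 1) EX RL ⟨7 :: [2, 3, 4], [], 9, false⟩) (lall (memL L) [2, 3, 4]) = true := by decide +kernel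

theorem rot7_8 : T.rot 7 [1, 3, 1, 3, 1, 3, 1, 8] (sel (ones 80) ip7 8) = true := by decide +kernel

theorem rot7_8r : band (Rule.ok (2 * 1) EX RL ⟨7 :: [1, 3, 1, 3, 1, 3, 1, 8], [3, 5, 2], 7, true⟩) (lall (memL L) [1, 3, 1, 3, 1, 3, 1, 8]) = true := by decide +kernel

theorem cov7 : T.cover 7 [(sel (ones 80) ip7 1), (sel (ones 80) ip7 2), (sel (ones 80) ip7 3), (sel (ones 80) ip7 4), (sel (ones 80) ip7 5), (sel (ones 80) ip7 6), (sel (ones 80) ip7 7), (sel (ones 80) ip7 8)] = true := by decide +kernel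

theorem tl7 : Nat.beq (T.let 7).tt 0 = true := by decide +kernel

theorem rot8_1 : T.rot 8 [8, 8] (sel (ones 80) ip8 1) = true := by decide +kernel

theorem rot8_1r : band (Rule.ok (2 * 1) EX RL ⟨8 :: [8, 8], [3], 4, true⟩) (lall (memL L) [8, 8]) = true := by decide +kernel

theorem rot8_2 : T.rot 8 [7, 9, 6] (sel (ones 80) ip8 2) = true := by decide +kernel

theorem rot8_2r : band (Rule.ok (2 * 1) EX RL ⟨8 :: [7, 9, 6], [3, 5, 2], 0, true⟩) (lall (memL L) [7, 9, 6]) = true := by decide +kernel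

theorem rot8_3 : T.rot 8 [6, 9, 7] (sel (ones 80) ip8 3) = true := by decide +kernel

theorem rot8_3r : band (Rule.ok (2 * 1) EX RL ⟨8 :: [6, 9, 7], [], 0, false⟩) (lall (memL L) [6, 9, 7]) = true := by decide +kernel

theorem rot8_4 : T.rot 8 [5, 9, 3] (sel (ones 80) ip8 4) = true := by decide +kernel

theorem rot8_4r : band (Rule.ok (2 * 1) EX RL ⟨8 :: [5, 9, 3], [5], 3, true⟩) (lall (memL L) [5, 9, 3]) = true := by decide +kernel

theorem rot8_5 : T.rot 8 [3, 9, 5] (sel (ones 80) ip8 5) = true := by decide +kernel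

theorem rot8_5r : band (Rule.ok (2 * 1) EX RL ⟨8 :: [3, 9, 5], [], 3, false⟩) (lall (memL L) [3, 9, 5]) = true := by decide +kernel

theorem rot8_6 : T.rot 8 [4, 5, 2] (sel (ones 80) ip8 6) = true := by decide +kernel

theorem rot8_6r : band (Rule.ok (2 * 1) EX RL ⟨8 :: [4, 5, 2], [], 9, false⟩) (lall (memL L) [4, 5, 2]) = true := by decide +kernel

theorem rot8_7 : T.rot 8 [7, 1, 3, 1, 3, 1, 3, 1] (sel (ones 80) ip8 7) = true := by decide +kernel

theorem rot8_7r : band (Rule.ok (2 * 1) EX RL ⟨8 :: [7, 1, 3, 1, 3, 1, 3, 1], [3, 5, 2, 2, 4, 3], 7, true⟩) (lall (memL L) [7, 1, 3, 1, 3, 1, 3, 1]) = true := by decide +kernel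

theorem rot8_8 : T.rot 8 [1, 3, 4, 5, 1, 5, 2, 3, 1] (sel (ones 80) ip8 8) = true := by decide +kernel

theorem rot8_8r : band (Rule.ok (2 * 1) EX RL ⟨8 :: [1, 3, 4, 5, 1, 5, 2, 3, 1], [2, 4, 3], 8, true⟩) (lall (memL L) [1, 3, 4, 5, 1, 5, 2, 3, 1]) = true := by decide +kernel

theorem cov8 : T.cover 8 [(sel (ones 80) ip8 1), (sel (ones 80) ip8 2), (sel (ones 80) ip8 3), (sel (ones 80) ip8 4), (sel (ones 80) ip8 5), (sel (ones 80) ip8 6), (sel (ones 80) ip8 7), (sel (ones 80) ip8 8), 1] = true := by decide +kernel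

theorem tl8 : Nat.beq (T.let 8).tt 0 = true := by decide +kernel

theorem rot9_1 : T.rot 9 [8] (sel (ones 80) ip9 1) = true := by decide +kernel

theorem rot9_1r : band (Rule.ok (2 * 1) EX RL ⟨9 :: [8], [], 9, false⟩) (lall (memL L) [8]) = true := by decide +kernel

theorem rot9_2 : T.rot 9 [9, 9] (sel (ones 80) ip9 2) = true := by decide +kernel

theorem rot9_2r : band (Rule.ok (2 * 1) EX RL ⟨9 :: [9, 9], [3], 4, false⟩) (lall (memL L) [9, 9]) = true := by decide +kernel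

theorem rot9_3 : T.rot 9 [6, 8, 7] (sel (ones 80) ip9 3) = true := by decide +kernel

theorem rot9_3r : band (Rule.ok (2 * 1) EX RL ⟨9 :: [6, 8, 7], [2, 5, 3], 0, true⟩) (lall (memL L) [6, 8, 7]) = true := by decide +kernel

theorem rot9_4 : T.rot 9 [7, 8, 6] (sel (ones 80) ip9 4) = true := by decide +kernel

theorem rot9_4r : band (Rule.ok (2 * 1) EX RL ⟨9 :: [7, 8, 6], [3, 5, 2, 2, 5, 3], 0, false⟩) (lall (memL L) [7, 8, 6]) = true := by decide +kernel

theorem rot9_5 : T.rot 9 [3, 8, 5] (sel (ones 80) ip9 5) = true := by decide +kernel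

theorem rot9_5r : band (Rule.ok (2 * 1) EX RL ⟨9 :: [3, 8, 5], [5, 3], 2, false⟩) (lall (memL L) [3, 8, 5]) = true := by decide +kernel

theorem rot9_6 : T.rot 9 [5, 8, 3] (sel (ones 80) ip9 6) = true := by decide +kernel

theorem rot9_6r : band (Rule.ok (2 * 1) EX RL ⟨9 :: [5, 8, 3], [5, 3, 5], 2, true⟩) (lall (memL L) [5, 8, 3]) = true := by decide +kernel

theorem rot9_7 : T.rot 9 [4, 3, 2] (sel (ones 80) ip9 7) = true := by decide +kernel

theorem rot9_7r : band (Rule.ok (2 * 1) EX RL ⟨9 :: [4, 3, 2], [], 9, false⟩) (lall (memL L) [4, 3, 2]) = true := by decide +kernel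

theorem rot9_8 : T.rot 9 [1, 5, 1, 5, 1, 5, 1, 6] (sel (ones 80) ip9 8) = true := by decide +kernel

theorem rot9_8r : band (Rule.ok (2 * 1) EX RL ⟨9 :: [1, 5, 1, 5, 1, 5, 1, 6], [3, 5, 2], 7, false⟩) (lall (memL L) [1, 5, 1, 5, 1, 5, 1, 6]) = true := by decide +kernel

theorem rot9_9 : T.rot 9 [1, 5, 4, 3, 1, 3, 2, 5, 1] (sel (ones 80) ip9 9) = true := by decide +kernel

theorem rot9_9r : band (Rule.ok (2 * 1) EX RL ⟨9 :: [1, 5, 4, 3, 1, 3, 2, 5, 1], [], 8, false⟩) (lall (memL L) [1, 5, 4, 3, 1, 3, 2, 5, 1]) = true := by decide +kernel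

theorem cov9 : T.cover 9 [(sel (ones 80) ip9 1), (sel (ones 80) ip9 2), (sel (ones 80) ip9 3), (sel (ones 80) ip9 4), (sel (ones 80) ip9 5), (sel (ones 80) ip9 6), (sel (ones 80) ip9 7), (sel (ones 80) ip9 8), (sel (ones 80) ip9 9)] = true := by decide +kernel

theorem tl9 : Nat.beq (T.let 9).tt 0 = true := by decide +kernel

end Cfsg.Agent.Spor.J3b
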