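import Cfsg.Agent.Spor.Chk

set_option autoImplicit false
set_option maxRecDepth 100000000
set_option Elab.async false
noncomputable section

namespace Cfsg.Agent.Spor.J3b

def m0_0 : Nat := nat_lit 0x2006080000000618
def m0_1 : Nat := nat_lit 0x304200000000365e05c7
def m0_2 : Nat := nat_lit 0x2040000000000000e52800001dd0
def m0_3 : Nat := nat_lit 0x400020000000000cb0000009400e4
def m0_4 : Nat := nat_lit 0x202000000000005020a050c00020506
def m0_5 : Nat := nat_lit 0x1100200000003010102210010031021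
def m0_6 : Nat := nat_lit 0x1101000000045541001511141404104
def m0_7 : Nat := nat_lit 0x1100000000000012001000000101001
def m0_8 : Nat := nat_lit 0x2020000000000050108020000020102
def m0_9 : Nat := nat_lit 0x40002000000000024000000440080
def m0_10 : Nat := nat_lit 0x20400000000000007128000015d0
def m0_11 : Nat := nat_lit 0x304200000000364e05c7
def m0_12 : Nat := nat_lit 0x2006080000000618
def n0 : Net := Net.cons 64 m0_0 (Net.cons 32 m0_1 (Net.cons 16 m0_2 (Net.cons 8 m0_3 (Net.cons 4 m0_4 (Net.cons 2 m0_5 (Net.cons 1 m0_6 (Net.cons 2 m0_7 (Net.cons 4 m0_8 (Net.cons 8 m0_9 (Net.cons 16 m0_10 (Net.cons 32 m0_11 (Net.cons 64 m0_12 (Net.nil)))))))))))))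

def m1_0 : Nat := nat_lit 0x2c60982404d1663f
def m1_1 : Nat := nat_lit 0xa1d20d0000000088087402
def m1_2 : Nat := nat_lit 0x820d000000c00000130f0000560a
def m1_3 : Nat := nat_lit 0xd0021000400810001002700080063
def m1_4 : Nat := nat_lit 0x20c0800000003050c0201000e020d06
def m1_5 : Nat := nat_lit 0x23003000001003300221102102002321
def m1_6 : Nat := nat_lit 0x4401000005004110504014444000540
def m1_7 : Nat := nat_lit 0x10001011121000000
def m1_8 : Nat := nat_lit 0x900000403040502000102000401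
def m1_9 : Nat := nat_lit 0x8900210004009500010064002a0002
def m1_10 : Nat := nat_lit 0x820d000000a0000012150000b42a
def m1_11 : Nat := nat_lit 0x4e1422d000000000b0451c8
def m1_12 : Nat := nat_lit 0x2c60982404d183fb
def n1 : Net := Net.cons 64 m1_0 (Net.cons 32 m1_1 (Net.cons 16 m1_2 (Net.cons 8 m1_3 (Net.cons 4 m1_4 (Net.cons 2 m1_5 (Net.cons 1 m1_6 (Net.cons 2 m1_7 (Net.cons 4 m1_8 (Net.cons 8 m1_9 (Net.cons 16 m1_10 (Net.cons 32 m1_11 (Net.cons 64 m1_12 (Net.nil)))))))))))))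

def m2_0 : Nat := nat_lit 0x80200002800010af
def m2_1 : Nat := nat_lit 0x8000034000000000343ef08e
def m2_2 : Nat := nat_lit 0x4000004400000094010000072f
def m2_3 : Nat := nat_lit 0x8000000000008000300091003000a4
def m2_4 : Nat := nat_lit 0x400010202030a0304010102
def m2_5 : Nat := nat_lit 0x200000000021203023231200010221
def m2_6 : Nat := nat_lit 0x400100400004104114011514000500
def m2_7 : Nat := nat_lit 0x1000110000000000000
def m2_8 : Nat := nat_lit 0x1000202000404000104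
def m2_9 : Nat := nat_lit 0x8000020000002000a000c900100039
def m2_10 : Nat := nat_lit 0x40000044000000b20400004327
def m2_11 : Nat := nat_lit 0x800003400000000033316006
def m2_12 : Nat := nat_lit 0x80200002800008af
def n2 : Net := Net.cons 64 m2_0 (Net.cons 32 m2_1 (Net.cons 16 m2_2 (Net.cons 8 m2_3 (Net.cons 4 m2_4 (Net.cons 2 m2_5 (Net.cons 1 m2_6 (Net.cons 2 m2_7 (Net.cons 4 m2_8 (Net.cons 8 m2_9 (Net.cons 16 m2_10 (Net.cons 32 m2_11 (Net.cons 64 m2_12 (Net.nil)))))))))))))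

def m3_0 : Nat := nat_lit 0x808048080000e92d
def m3_1 : Nat := nat_lit 0x481000000000627814ab
def m3_2 : Nat := nat_lit 0x8080000000000000113500005351
def m3_3 : Nat := nat_lit 0x8000000084000e00a700420069
def m3_4 : Nat := nat_lit 0x800000204050304040605080d
def m3_5 : Nat := nat_lit 0x10000002011201300321000023
def m3_6 : Nat := nat_lit 0x4040000010410401011451141441
def m3_7 : Nat := nat_lit 0x10000010210000000000010200
def m3_8 : Nat := nat_lit 0x80000000a000301060906040a02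
def m3_9 : Nat := nat_lit 0x8000000024001e000300370068
def m3_10 : Nat := nat_lit 0x8080000000000000220600000b11
def m3_11 : Nat := nat_lit 0x4810000000000554a05e
def m3_12 : Nat := nat_lit 0x8080480800006d6d
def n3 : Net := Net.cons 64 m3_0 (Net.cons 32 m3_1 (Net.cons 16 m3_2 (Net.cons 8 m3_3 (Net.cons 4 m3_4 (Net.cons 2 m3_5 (Net.cons 1 m3_6 (Net.cons 2 m3_7 (Net.cons 4 m3_8 (Net.cons 8 m3_9 (Net.cons 16 m3_10 (Net.cons 32 m3_11 (Net.cons 64 m3_12 (Net.nil)))))))))))))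

def m4_0 : Nat := nat_lit 0x802000194e0840a9
def m4_1 : Nat := nat_lit 0x802040190000000001a3084d
def m4_2 : Nat := nat_lit 0xa02000002dc000005b6
def m4_3 : Nat := nat_lit 0x1000840006000e000400b00016
def m4_4 : Nat := nat_lit 0x40802020504040204010100
def m4_5 : Nat := nat_lit 0x1000020103020000301320211310
def m4_6 : Nat := nat_lit 0x40105141441541040105040
def m4_7 : Nat := nat_lit 0x100110200001000000000
def m4_8 : Nat := nat_lit 0x40203020402070104000400
def m4_9 : Nat := nat_lit 0x1000840022000e004c00140016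
def m4_10 : Nat := nat_lit 0x8a02000002dc000005a4
def m4_11 : Nat := nat_lit 0x802040190000000001a3084d
def m4_12 : Nat := nat_lit 0x802000194e080039
def n4 : Net := Net.cons 64 m4_0 (Net.cons 32 m4_1 (Net.cons 16 m4_2 (Net.cons 8 m4_3 (Net.cons 4 m4_4 (Net.cons 2 m4_5 (Net.cons 1 m4_6 (Net.cons 2 m4_7 (Net.cons 4 m4_8 (Net.cons 8 m4_9 (Net.cons 16 m4_10 (Net.cons 32 m4_11 (Net.cons 64 m4_12 (Net.nil)))))))))))))

def cl1 : Nat := nat_lit 0xffffffffffffffffffff
def tt1 : Nat := nat_lit 0x1040048082002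
def tm1_0 : Nat := nat_lit 0x10632c630cd8480a2702
def tm1_1 : Nat := nat_lit 0xf4dee75ebbc7b632c75c
def tm1_2 : Nat := nat_lit 0xd20032a0e13007c00000
def tm1_3 : Nat := nat_lit 0xd28436e0a1f006000000
def tm1_4 : Nat := nat_lit 0x9210800000800000000
def ip1_0 : Nat := nat_lit 0x5a179617f6bd68aaa24a
def ip1_1 : Nat := nat_lit 0xfd9eed7cfaffb7f2c75c
def ip1_2 : Nat := nat_lit 0xc1e31382003000000000
def ip1_3 : Nat := nat_lit 0xbc601220b1000000000
def ip1 : List Nat := [ip1_0, ip1_1, ip1_2, ip1_3]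
def l1 : Let := ⟨0, false, cl1, tt1, [tm1_0, tm1_1, tm1_2, tm1_3, tm1_4]⟩

def cl2 : Nat := nat_lit 0xffffffffffffffffffff
def tt2 : Nat := nat_lit 0xe429782a081291504514
def tm2_0 : Nat := nat_lit 0x9b94c25ef3a520a28248
def tm2_1 : Nat := nat_lit 0x838c0c68007200000000
def tm2_2 : Nat := nat_lit 0x834a45aaaa9200000000
def tm2_3 : Nat := nat_lit 0x830000e8a07200000000
def tm2_4 : Nat := nat_lit 0x64210800000801000000
def ip2_0 : Nat := nat_lit 0x3cb083d6710520a28248
def ip2_1 : Nat := nat_lit 0xa6ea4cea821000000000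
def ip2_2 : Nat := nat_lit 0x20050500aae800000000
def ip2_3 : Nat := nat_lit 0x41000000000201000000
def ip2 : List Nat := [ip2_0, ip2_1, ip2_2, ip2_3]
def l2 : Let := ⟨1, false, cl2, tt2, [tm2_0, tm2_1, tm2_2, tm2_3, tm2_4]⟩

def cl3 : Nat := nat_lit 0xffffffffffffffffffff
def tt3 : Nat := nat_lit 0x1c0014020a002010820
def tm3_0 : Nat := nat_lit 0xee96e4abc75c450c1180
def tm3_1 : Nat := nat_lit 0xad08ab6d70b453892b2c
def tm3_2 : Nat := nat_lit 0xecd8c20f5d0061800100
def tm3_3 : Nat := nat_lit 0xec58e22d551459800300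
def tm3_4 : Nat := nat_lit 0x10211810000000400000
def ip3_0 : Nat := nat_lit 0x9a961cb1c74c14441184
def ip3_1 : Nat := nat_lit 0xf1e1c16b20b452492924
def ip3_2 : Nat := nat_lit 0x4c31703a490071400104
def ip3_3 : Nat := nat_lit 0xac08ea0d550449802208
def ip3 : List Nat := [ip3_0, ip3_1, ip3_2, ip3_3]
def l3 : Let := ⟨2, false, cl3, tt3, [tm3_0, tm3_1, tm3_2, tm3_3, tm3_4]⟩

def cl4 : Nat := nat_lit 0xffffffffffffffffffff
def tt4 : Nat := nat_lit 0x18108214510520a28248
def tm4_0 : Nat := nat_lit 0xe66d7cae2b9395504514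
def tm4_1 : Nat := nat_lit 0x2c00314210406800000
def tm4_2 : Nat := nat_lit 0x28607d527e520000000
def tm4_3 : Nat := nat_lit 0x2420614218406000000
def tm4_4 : Nat := nat_lit 0x19108000400800800000
def ip4_0 : Nat := nat_lit 0xf4797e6e483393504514
def ip4_1 : Nat := nat_lit 0x12d4035547a422800000
def ip4_2 : Nat := nat_lit 0x1186868400c124000000
def ip4_3 : Nat := nat_lit 0x8000000200800000000
def ip4 : List Nat := [ip4_0, ip4_1, ip4_2, ip4_3]
def l4 : Let := ⟨1, true, cl4, tt4, [tm4_0, tm4_1, tm4_2, tm4_3, tm4_4]⟩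

def cl5 : Nat := nat_lit 0xffffffffffffffffffff
def tt5 : Nat := nat_lit 0x2060480824804041080
def tm5_0 : Nat := nat_lit 0xf5da935b64a98b010921
def tm5_1 : Nat := nat_lit 0x76125c9cd7588d8c138c
def tm5_2 : Nat := nat_lit 0xf41cc22f5d0109800100
def tm5_3 : Nat := nat_lit 0xf41ad23d5510c9800300
def tm5_4 : Nat := nat_lit 0x8212800000400400000
def ip5_0 : Nat := nat_lit 0x21ccb96928b48b010925
def ip5_1 : Nat := nat_lit 0xe63714b18659854c1184
def ip5_2 : Nat := nat_lit 0xf829b23a4c1589000104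
def ip5_3 : Nat := nat_lit 0x74185a1d550049c80208
def ip5 : List Nat := [ip5_0, ip5_1, ip5_2, ip5_3]
def l5 : Let := ⟨2, true, cl5, tt5, [tm5_0, tm5_1, tm5_2, tm5_3, tm5_4]⟩

def cl6 : Nat := nat_lit 0x1cb084c30a69203978ff
def tm6_0 : Nat := nat_lit 0xcb08480004120090830
def tm6_1 : Nat := nat_lit 0x1cb004c10068203150ee
def tm6_2 : Nat := nat_lit 0xc3000030a0800080004
def tm6_3 : Nat := nat_lit 0xc1080c0006800185814
def ip6_0 : Nat := nat_lit 0x41004810a60200868b4
def ip6_1 : Nat := nat_lit 0x1c20804300210038487e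
def ip6_2 : Nat := nat_lit 0x1c8084810249002938fe
def ip6 : List Nat := [ip6_0, ip6_1, ip6_2]
def l6 : Let := ⟨3, false, cl6, 0x0, [tm6_0, tm6_1, tm6_2, tm6_3, 0x2000]⟩

def cl7 : Nat := nat_lit 0xd09580804ce92824d9ff
def tm7_0 : Nat := nat_lit 0xc01400000cc928244901
def tm7_1 : Nat := nat_lit 0x800580804ca90824997e
def tm7_2 : Nat := nat_lit 0xc0818000040808000184
def tm7_3 : Nat := nat_lit 0xc0108080006808005914
def tm7_4 : Nat := nat_lit 0x10000000000000000000
def ip7_0 : Nat := nat_lit 0x1014008040202804804b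
def ip7_1 : Nat := nat_lit 0x1090808040892820886a
def ip7_2 : Nat := nat_lit 0x1014800044a0280490fa
def ip7_3 : Nat := nat_lit 0xc0010000084000004104
def ip7 : List Nat := [ip7_0, ip7_1, ip7_2, ip7_3]
def l7 : Let := ⟨3, true, cl7, 0x0, [tm7_0, tm7_1, tm7_2, tm7_3, tm7_4]⟩

def cl8 : Nat := nat_lit 0xc5f7f5730e65b33d7fff
def tm8_0 : Nat := nat_lit 0x40e1d1530e0432255b88
def tm8_1 : Nat := nat_lit 0x4417051080493105d96
def tm8_2 : Nat := nat_lit 0xc4b7c5310665202d2260
def tm8_3 : Nat := nat_lit 0xc41385310204022d2248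
def tm8_4 : Nat := nat_lit 0x1000000000000000000
def ip8_0 : Nat := nat_lit 0x400291000841102550a8
def ip8_1 : Nat := nat_lit 0x842521230405a331259e
def ip8_2 : Nat := nat_lit 0x85e32163066483143dbe
def ip8_3 : Nat := nat_lit 0x104410000000080240
def ip8 : List Nat := [ip8_0, ip8_1, ip8_2, ip8_3]
def l8 : Let := ⟨4, false, cl8, 0x0, [tm8_0, tm8_1, tm8_2, tm8_3, tm8_4]⟩

def cl9 : Nat := nat_lit 0xe4bfb4f90ef5b73deeff
def tm9_0 : Nat := nat_lit 0x80bb20190e74a2358a89
def tm9_1 : Nat := nat_lit 0x202a30180474b3104c16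
def tm9_2 : Nat := nat_lit 0xe0bd84f10685042da2e0
def tm9_3 : Nat := nat_lit 0xe03084300694042da248
def tm9_4 : Nat := nat_lit 0x4000000000000000000
def ip9_0 : Nat := nat_lit 0x642f94b90cc415286677
def ip9_1 : Nat := nat_lit 0xe0b130590e3493394c36
def ip9_2 : Nat := nat_lit 0x64a710f90e751709cc96
def ip9_3 : Nat := nat_lit 0x88400008020042248
def ip9 : List Nat := [ip9_0, ip9_1, ip9_2, ip9_3]
def l9 : Let := ⟨4, true, cl9, 0x0, [tm9_0, tm9_1, tm9_2, tm9_3, tm9_4]⟩

def NT : List Net := [n0, n1, n2, n3, n4]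
def LT : List Let := [⟨0, false, 0, 0, []⟩, l1, l2, l3, l4, l5, l6, l7, l8, l9]
def T : Tab := ⟨NT, LT⟩
def EX : List (List Nat) := [[], [0], [2], [4], [3], [5], [3, 4, 2], [3, 5, 2], [2, 4, 3], [2, 5, 3]]
def RL : List (List Nat) := [[2, 5, 3, 3, 5, 2, 2, 4, 3, 3, 4, 2], [3, 4, 4, 4, 2], [3, 5, 2, 5, 3, 4, 2, 4], [2, 5, 3, 5, 2, 4, 3, 4], [4, 4, 4], [2, 4, 4, 4, 3], [2, 0, 2, 0], [3, 5, 2, 2, 4, 3, 0, 4, 0, 4, 0, 4, 0], [2, 4, 3, 0, 4, 2, 5, 0, 5, 3, 4, 0]]
def XL : List (List Nat) := []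
def BW : List (List Nat) := [[4], [3, 4, 2], [2, 4, 3]]
def IV : Nat := 0x8090607030205040100
def L : List Nat := [1, 2, 3, 4, 5, 6, 7, 8, 9]
def gs : List Nat := [1, 2, 3]
def base : List Nat := [3, 6, 8]

end Cfsg.Agent.Spor.J3b
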